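import Mathlib
import Groth.Prelude.Def_Found
import Groth.Agent.AWN.Criterion

/-!
Sub-algebras of a finite field extension and their base change to a flat Japanese algebra.
-/

set_option autoImplicit false
universe u
open TensorProduct CAlg

namespace Groth.Agent.CAlgJapanese

section NormalPart

variable (A B K' : Type u) [CommRing A] [IsDomain A] [CommRing B] [Algebra A B]
  [Field K'] [Algebra A K'] [Algebra (FractionRing A) K'] [IsScalarTower A (FractionRing A) K']
  [FiniteDimensional (FractionRing A) K']

omit [IsDomain A] in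
theorem flat_field [IsDomain A] : Module.Flat A K' := by
  have : Module.Flat A (FractionRing A) := IsLocalization.flat _ (nonZeroDivisors A)
  exact Module.Flat.trans A (FractionRing A) K'

theorem algebraMap_field_injective : Function.Injective (algebraMap A K') := by
  rw [IsScalarTower.algebraMap_eq A (FractionRing A) K']
  exact (algebraMap (FractionRing A) K').injective.comp (IsFractionRing.injective A _)

theorem essFiniteType_field : Algebra.EssFiniteType A K' := by
  have : Algebra.EssFiniteType A (FractionRing A) :=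
    Algebra.EssFiniteType.of_isLocalization _ (nonZeroDivisors A)
  exact Algebra.EssFiniteType.comp A (FractionRing A) K'

theorem isNoetherianRing_tensor [IsNoetherianRing B] : IsNoetherianRing (B ⊗[A] K') := by
  have := essFiniteType_field A K'
  exact Algebra.EssFiniteType.isNoetherianRing B (B ⊗[A] K')

/-- The minimal primes of `B ⊗ K'`. -/
abbrev MinIdx : Type u := {Q : PrimeSpectrum (B ⊗[A] K') // Q.asIdeal ∈ minimalPrimes (B ⊗[A] K')}

theorem finite_minIdx [IsNoetherianRing B] : Finite (MinIdx A B K') := by
  have := isNoetherianRing_tensor A B K'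
  have := (minimalPrimes.finite_of_isNoetherianRing (B ⊗[A] K')).to_subtype
  exact Finite.of_injective
    (fun Q : MinIdx A B K' => (⟨Q.1.asIdeal, Q.2⟩ : minimalPrimes (B ⊗[A] K')))
    (fun Q Q' h => Subtype.ext (PrimeSpectrum.ext (congrArg Subtype.val h)))

theorem under_mem_minimalPrimes [Module.Flat A B] (Q : MinIdx A B K') :
    Q.1.asIdeal.under B ∈ minimalPrimes B := by
  have := flat_field A K'
  refine ⟨⟨inferInstance, bot_le⟩, ?_⟩
  rintro p ⟨hp, -⟩ hle
  obtain ⟨P, hPQ, hP, ⟨hover⟩⟩ :=
    Ideal.exists_ideal_le_liesOver_of_le (p := p) (q := Q.1.asIdeal.under B) Q.1.asIdeal hle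
  rw [hover]
  exact Ideal.comap_mono (Q.2.2 ⟨hP, bot_le⟩ hPQ)

/-- The residue field of a minimal prime of `B ⊗ K'`. -/
abbrev Res (Q : MinIdx A B K') : Type u := Q.1.asIdeal.ResidueField

/-- The integral closures of `B` in the residue fields at the minimal primes. -/
abbrev Normal : Type u := (Q : MinIdx A B K') → integralClosure B (Res A B K' Q)

theorem finite_integralClosure [IsNoetherianRing B] [Module.Flat A B]
    (hJ : ∀ (q : Ideal B) [q.IsPrime], q ∈ minimalPrimes B → IsN2 (B ⧸ q))
    (Q : MinIdx A B K') : Module.Finite B (integralClosure B (Res A B K' Q)) := by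
  classical
  set L := Res A B K' Q
  set q : Ideal B := Q.1.asIdeal.under B with hq
  set ι : B ⊗[A] K' →ₐ[B] L := IsScalarTower.toAlgHom B (B ⊗[A] K') L with hι
  have hker : ∀ b : B, b ∈ q → algebraMap B L b = 0 := by
    intro b hb
    rw [IsScalarTower.algebraMap_apply B (B ⊗[A] K') L, Ideal.algebraMap_residueField_eq_zero]
    exact hb
  letI : Algebra (B ⧸ q) L := (Ideal.Quotient.lift q (algebraMap B L) hker).toAlgebra
  haveI : IsScalarTower B (B ⧸ q) L := .of_algebraMap_eq fun b => rfl
  haveI : FaithfulSMul (B ⧸ q) L := by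
    rw [faithfulSMul_iff_algebraMap_injective, injective_iff_map_eq_zero]
    intro r
    obtain ⟨b, rfl⟩ := Ideal.Quotient.mk_surjective r
    intro hb
    change algebraMap B L b = 0 at hb
    rw [IsScalarTower.algebraMap_apply B (B ⊗[A] K') L, Ideal.algebraMap_residueField_eq_zero] at hb
    exact Ideal.Quotient.eq_zero_iff_mem.mpr hb
  letI : Algebra (FractionRing (B ⧸ q)) L := FractionRing.liftAlgebra (B ⧸ q) L
  haveI : IsScalarTower (B ⧸ q) (FractionRing (B ⧸ q)) L :=
    FractionRing.isScalarTower_liftAlgebra (B ⧸ q) L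
  -- finiteness of the residue field
  obtain ⟨a, ha, hint⟩ := exists_integral_multiples A (FractionRing A)
    (Finset.univ.image (Module.finBasis (FractionRing A) K'))
  set bs := Module.finBasis (FractionRing A) K'
  let F := FractionRing (B ⧸ q)
  let S : Set L := Set.range fun i => ι (1 ⊗ₜ (a • bs i))
  let E : IntermediateField F L := IntermediateField.adjoin F S
  have hSint : ∀ s ∈ S, IsIntegral F s := by
    rintro _ ⟨i, rfl⟩
    have h1 : IsIntegral A (a • bs i) :=
      hint _ (Finset.mem_image_of_mem _ (Finset.mem_univ i))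
    have h2 : IsIntegral B ((1 : B) ⊗ₜ[A] (a • bs i)) := IsIntegral.tmul 1 h1
    have h3 : IsIntegral (B ⧸ q) (ι ((1 : B) ⊗ₜ[A] (a • bs i))) := (h2.map ι).tower_top
    exact h3.tower_top
  haveI : Finite S := (Set.finite_range _).to_subtype
  haveI : FiniteDimensional F E := IntermediateField.finiteDimensional_adjoin hSint
  have hB : ∀ b : B, algebraMap B L b ∈ E := by
    intro b
    have : algebraMap B L b = algebraMap F L (algebraMap (B ⧸ q) F (Ideal.Quotient.mk q b)) := by
      rw [← IsScalarTower.algebraMap_apply (B ⧸ q) F L]; rfl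
    rw [this]
    exact IntermediateField.algebraMap_mem E _
  have hι_tmul : ∀ b x, ι (b ⊗ₜ x) = algebraMap B L b * ι (1 ⊗ₜ x) := by
    intro b x
    rw [← Algebra.smul_def, ← map_smul, TensorProduct.smul_tmul', smul_eq_mul, mul_one]
  let g : K' →+* L := ι.toRingHom.comp Algebra.TensorProduct.includeRight.toRingHom
  have hg : ∀ x, g x = ι (1 ⊗ₜ x) := fun _ => rfl
  have hgA : ∀ c : A, g (algebraMap A K' c) = algebraMap B L (algebraMap A B c) := by
    intro c
    rw [hg, Algebra.algebraMap_eq_smul_one c, TensorProduct.tmul_smul,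
      ← algebraMap_smul B c ((1 : B) ⊗ₜ[A] (1 : K')), map_smul, ← Algebra.TensorProduct.one_def,
      map_one, Algebra.algebraMap_eq_smul_one (algebraMap A B c)]
  have hgK : ∀ k : FractionRing A, g (algebraMap _ K' k) ∈ E := by
    intro k
    obtain ⟨n, d, -, rfl⟩ := IsFractionRing.div_surjective A k
    rw [map_div₀, map_div₀, ← IsScalarTower.algebraMap_apply, ← IsScalarTower.algebraMap_apply,
      hgA, hgA]
    exact div_mem (hB _) (hB _)
  have hgb : ∀ i, g (bs i) ∈ E := by
    intro i
    have h1 : g (a • bs i) ∈ E := IntermediateField.subset_adjoin F S ⟨i, rfl⟩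
    rw [Algebra.smul_def, map_mul] at h1
    have h0 : g (algebraMap A K' a) ≠ 0 :=
      (map_ne_zero g).mpr ((map_ne_zero_iff _ (algebraMap_field_injective A K')).mpr ha)
    have h2 := mul_mem (inv_mem (show g (algebraMap A K' a) ∈ E by rw [hgA]; exact hB _)) h1
    rwa [← mul_assoc, inv_mul_cancel₀ h0, one_mul] at h2
  have hgall : ∀ x, g x ∈ E := by
    intro x
    rw [← bs.sum_repr x, map_sum]
    refine sum_mem fun i _ => ?_
    rw [Algebra.smul_def, map_mul]
    exact mul_mem (hgK _) (hgb i)
  have hιmem : ∀ t, ι t ∈ E := by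
    intro t
    induction t using TensorProduct.induction_on with
    | zero => simp
    | tmul b x => rw [hι_tmul]; exact mul_mem (hB b) (hgall x)
    | add x y hx hy => rw [map_add]; exact add_mem hx hy
  have htop : E = ⊤ := by
    refine eq_top_iff.mpr fun x _ => ?_
    obtain ⟨s, t, -, rfl⟩ :=
      IsFractionRing.div_surjective ((B ⊗[A] K') ⧸ Q.1.asIdeal) x
    obtain ⟨s, rfl⟩ := Ideal.Quotient.mk_surjective s
    obtain ⟨t, rfl⟩ := Ideal.Quotient.mk_surjective t
    exact div_mem (hιmem s) (hιmem t)
  haveI : FiniteDimensional F L := by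
    exact Module.Finite.equiv
      ((IntermediateField.equivOfEq htop).trans IntermediateField.topEquiv).toLinearEquiv
  have hfin : Module.Finite (B ⧸ q) (integralClosure (B ⧸ q) L) :=
    hJ q (under_mem_minimalPrimes A B K' Q) L inferInstance
  haveI : Module.Finite B (integralClosure (B ⧸ q) L) :=
    Module.Finite.trans (B ⧸ q) (integralClosure (B ⧸ q) L)
  let j : integralClosure B L →ₗ[B] integralClosure (B ⧸ q) L :=
    { toFun := fun x => ⟨x.1, x.2.tower_top⟩
      map_add' := fun _ _ => rfl
      map_smul' := fun _ _ => rfl }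
  exact Module.Finite.of_injective j fun x y h => Subtype.ext (congrArg Subtype.val h :)

theorem isNoetherian_normal [IsNoetherianRing B] [Module.Flat A B]
    (hJ : ∀ (q : Ideal B) [q.IsPrime], q ∈ minimalPrimes B → IsN2 (B ⧸ q)) :
    IsNoetherian B (Normal A B K') := by
  have := finite_minIdx A B K'
  have := fun Q => finite_integralClosure A B K' hJ Q
  exact inferInstance

variable {A B K'}

/-- The map from `B ⊗ C` to the normalization. -/
noncomputable def toNormal (C : Subalgebra A K') [Module.Finite A C] :
    B ⊗[A] C →ₐ[B] Normal A B K' :=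
  Pi.algHom B _ fun Q =>
    AlgHom.codRestrict
      ((IsScalarTower.toAlgHom B (B ⊗[A] K') (Res A B K' Q)).comp
        (Algebra.TensorProduct.map (AlgHom.id B B) C.val))
      (integralClosure B (Res A B K' Q))
      fun x => (Algebra.IsIntegral.isIntegral (R := B) x).map _

theorem toNormal_incl {C C' : Subalgebra A K'} [Module.Finite A C] [Module.Finite A C']
    (h : C ≤ C') (x : B ⊗[A] C) :
    toNormal C' (Algebra.TensorProduct.map (AlgHom.id B B) (Subalgebra.inclusion h) x) =
      toNormal (B := B) C x := by
  induction x using TensorProduct.induction_on with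
  | zero => simp
  | tmul b c => rfl
  | add x y hx hy => simp only [map_add, hx, hy]

theorem isNilpotent_of_toNormal_eq_zero [Module.Flat A B] {C : Subalgebra A K'} [Module.Finite A C]
    {x : B ⊗[A] C} (h : toNormal C x = 0) : IsNilpotent x := by
  have hinj : Function.Injective (Algebra.TensorProduct.map (AlgHom.id B B) C.val) := by
    have h1 : Function.Injective (C.val.toLinearMap.lTensor B) :=
      Module.Flat.lTensor_preserves_injective_linearMap _ Subtype.val_injective
    exact h1
  refine (IsNilpotent.map_iff hinj).mp ?_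
  rw [← mem_nilradical, nilradical, Ideal.zero_eq_bot, ← Ideal.sInf_minimalPrimes, Ideal.mem_sInf]
  intro Q hQ
  have := hQ.1.1
  exact Ideal.algebraMap_residueField_eq_zero.mp
    (congrArg Subtype.val (congrFun h ⟨⟨Q, hQ.1.1⟩, hQ⟩) :)

theorem toNormal_eq_zero_of_isNilpotent {C : Subalgebra A K'} [Module.Finite A C]
    {x : B ⊗[A] C} (h : IsNilpotent x) : toNormal C x = 0 :=
  (h.map (toNormal C)).eq_zero

theorem finite_sup_subalgebra (C D : Subalgebra A K') [Module.Finite A C] [Module.Finite A D] :
    Module.Finite A ↥(C ⊔ D) := Subalgebra.finite_sup C D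

end NormalPart

end Groth.Agent.CAlgJapanese
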